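import Cfsg.Agent.H700.F43.MdlI
import Cfsg.Agent.H92.RB.Def

/-!
# `F₄(3)` : conjugacy of the long root elements and generation (S2464, box T7 (2), (3); helper358)

* `conj24` : `x₂₄(1)` and `z` are conjugate; `conj_inv_zz` : `z` and `z⁻¹` are conjugate;
* `gen_top` : a subgroup with the eight elements `x_{±α}(1)`, `α` simple, is everything;
* `exists_s` : there is `s` with `s z s⁻¹ = x₂₄(1)` and `⟨P^s, Q⟩ = G`.
-/

set_option autoImplicit false
set_option maxRecDepth 100000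

namespace Cfsg.Agent.H358.RB

open Cfsg.Lie Cfsg.Agent.H700.F43
open Cfsg.Agent.Tits.Roots Cfsg.Agent.Tits.Core Cfsg.Agent.Nodes.BNOf Cfsg.Agent.Nodes.StabComb
  Cfsg.Agent.Nodes.LeviDec Cfsg.Agent.Nodes.RGDChev Cfsg.Agent.KFacts.RgdChevCoord
open Cfsg.Agent.H750.F43 (G3 zz)
open Cfsg.Agent.H701.F43 (Cent.hF Cent.cF)

/-- the letters of `n_i` -/
def nL (b : Bool) : ℕ → List (ℕ × Bool)
  | 0 => [(33, b), (14, !b), (33, b)]
  | 1 => [(27, b), (20, !b), (27, b)]
  | 2 => [(25, b), (22, !b), (25, b)]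
  | _ => [(24, b), (23, !b), (24, b)]

/-- the number of a simple root -/
def sN : ℕ → ℕ
  | 0 => 33
  | 1 => 27
  | 2 => 25
  | _ => 24

/-- the word of `n_w` and of its inverse -/
def wL (w : List ℕ) : List (ℕ × Bool) := w.flatMap (nL true)
def wR (w : List ℕ) : List (ℕ × Bool) := w.reverse.flatMap (nL false)

/-- the conjugate of a root element -/
def cj (w : List ℕ) (p : ℕ × Bool) : List (ℕ × Bool) := wL w ++ ([p] ++ wR w)

theorem wd_cj (w : List ℕ) (p : ℕ × Bool) : wd (cj w p) = wd (wL w) * xr p * wd (wR w) := by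
  rw [cj, wd_append, wd_append, wd_single, mul_assoc]

/-- the letters of the simple roots and their negatives -/
def sI : List ℕ := [33, 27, 25, 24, 14, 20, 22, 23]

theorem sI_lt : ∀ r ∈ sI, r < 48 := by decide

/-- words from the simple roots to all roots -/
def tab : List (ℕ × List ℕ × ℕ) :=
  [(0, [3, 2, 1, 2, 3, 0, 1, 2], 2), (1, [2, 1, 2, 3, 0, 1, 2], 2), (2, [1, 2, 3, 0, 1, 2], 2),
   (3, [0, 1, 2, 3, 1, 2, 1, 0], 0), (4, [2, 3, 0, 1, 2], 2), (5, [3, 0, 1, 2], 2), (6, [0, 1, 2], 2),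
   (7, [1, 2, 3, 1, 2, 1, 0], 0), (8, [2, 3, 1, 2, 1, 0], 0), (9, [3, 1, 2, 1, 0], 0), (10, [1, 2, 1, 0], 0),
   (11, [3, 2, 1, 0], 0), (12, [2, 1, 0], 0), (13, [1, 0], 0), (14, [0], 0), (15, [2, 3, 1, 2], 2),
   (16, [3, 1, 2], 2), (17, [1, 2], 2), (18, [3, 2, 1], 1), (19, [2, 1], 1), (20, [1], 1), (21, [3, 2], 2),
   (22, [2], 2), (23, [3], 3), (24, [], 3), (25, [], 2), (26, [3], 2), (27, [], 1), (28, [2], 1), (29, [3, 2], 1),
   (30, [1], 2), (31, [3, 1], 2), (32, [2, 3, 1], 2), (33, [], 0), (34, [1], 0), (35, [2, 1], 0),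
   (36, [3, 2, 1], 0), (37, [1, 2, 1], 0), (38, [3, 1, 2, 1], 0), (39, [2, 3, 1, 2, 1], 0),
   (40, [1, 2, 3, 1, 2, 1], 0), (41, [0, 1], 2), (42, [3, 0, 1], 2), (43, [2, 3, 0, 1], 2),
   (44, [0, 1, 2, 3, 1, 2, 1], 0), (45, [1, 2, 3, 0, 1], 2), (46, [2, 1, 2, 3, 0, 1], 2),
   (47, [3, 2, 1, 2, 3, 0, 1], 2)]

theorem chk_tab : (tab.all fun e => chkE (cj e.2.1 (sN e.2.2, true)) [(e.1, true)] ||
    chkE (cj e.2.1 (sN e.2.2, false)) [(e.1, true)]) = true := by decide +kernel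

theorem tab_idx : ∀ r < 48, ∃ e ∈ tab, e.1 = r := by decide +kernel

theorem tab_let : (tab.all fun e => ((cj e.2.1 (sN e.2.2, true)).all fun p => decide (p.1 ∈ sI)) &&
    ((cj e.2.1 (sN e.2.2, false)).all fun p => decide (p.1 ∈ sI))) = true := by decide +kernel

/-- words lie in a subgroup -/
theorem wd_in {S : List ℕ} (hS : ∀ r ∈ S, r < 48) {K : Subgroup Gm} (hK : ∀ r ∈ S, xp r ∈ K) {w : List (ℕ × Bool)}
    (h : ∀ p ∈ w, p.1 ∈ S) : wd w ∈ K := by
  induction w with
  | nil => exact one_mem _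
  | cons p w ih =>
    rw [wd_cons]
    refine mul_mem ?_ (ih fun q hq => h q (List.mem_cons_of_mem _ hq))
    have h1 : p.1 ∈ S := h p List.mem_cons_self
    obtain ⟨r, b⟩ := p
    cases b
    · rw [xr_false (hS r h1)]
      exact mul_mem (hK r h1) (hK r h1)
    · exact hK r h1

theorem xp_in {K : Subgroup Gm} (hK : ∀ r ∈ sI, xp r ∈ K) {r : ℕ} (hr : r < 48) : xp r ∈ K := by
  obtain ⟨e, he, rfl⟩ := tab_idx r hr
  have h1 := List.all_eq_true.1 chk_tab e he
  have h2 := List.all_eq_true.1 tab_let e he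
  rw [Bool.and_eq_true, List.all_eq_true, List.all_eq_true] at h2
  rw [Bool.or_eq_true] at h1
  rcases h1 with h1 | h1
  · have h3 : wd (cj e.2.1 (sN e.2.2, true)) = xp e.1 := (word_eq h1).trans (wd_single _)
    exact h3 ▸ (wd_in sI_lt hK fun p hp => by simpa using h2.1 p hp)
  · have h3 : wd (cj e.2.1 (sN e.2.2, false)) = xp e.1 := (word_eq h1).trans (wd_single _)
    exact h3 ▸ (wd_in sI_lt hK fun p hp => by simpa using h2.2 p hp)

/-- **generation** -/
theorem gen_top {K : Subgroup Gm} (hK : ∀ r ∈ sI, xp r ∈ K) : K = ⊤ := by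
  have hG1 := G1_eq_top Cfsg.Agent.H701.F43.Cent.hF (K := ZMod 3) Cfsg.Agent.H701.F43.Cent.cF
  rw [eq_top_iff, ← hG1]
  refine RGD.Sup_le fun x hx => ?_
  obtain ⟨r, hr, rfl⟩ := (isRoot_iff Cfsg.Agent.H701.F43.Cent.hF Cfsg.Agent.H701.F43.Cent.cF _).1 hx
  rw [Cfsg.Agent.H701.F43.Cent.nroots] at hr
  exact Cfsg.Agent.H701.F43.CzP.XX_le hr (xp_in hK hr)

/-! ### conjugacy -/

/-- the reflections from `24` to `47` -/
def w47 : List ℕ := [3, 2, 1, 2, 0, 1, 2]

theorem chk_inv : chkE (wL w47 ++ wR w47) [] = true := by decide +kernel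

theorem chk_inv' : chkE (wR w47 ++ wL w47) [] = true := by decide +kernel

theorem chk47 : (chkE (cj w47 (24, true)) [(47, true)] || chkE (cj w47 (24, false)) [(47, true)]) = true := by
  decide +kernel

theorem xp24_inv : xr (24, false) = (xp 24)⁻¹ :=
  (xr_false (by norm_num)).trans (inv_of_cube (G := Gm) (xp_cube (by norm_num)))

theorem inv_of {G : Type*} [Group G] {a b : G} (h : a * b = 1) : b = a⁻¹ := (inv_eq_of_mul_eq_one_right h).symm

/-- the words of `h_{24}(-1)` -/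
def hL : List (ℕ × Bool) := nL true 3 ++ nL true 3
def hR : List (ℕ × Bool) := nL false 3 ++ nL false 3

theorem chk_h : chkE (hL ++ hR) [] = true := by decide +kernel

theorem chk_h47 : chkE (hL ++ ([(47, true)] ++ hR)) [(47, false)] = true := by decide +kernel

theorem inv_h : wd hL * wd hR = 1 := by
  rw [← wd_append]
  exact word_eq chk_h

theorem conj_h : wd hL * xp 47 * (wd hL)⁻¹ = (xp 47)⁻¹ := by
  have h1 : wd hR = (wd hL)⁻¹ := inv_of (G := Gm) inv_h
  rw [← h1, ← xr47, ← wd_single (47, false), ← word_eq chk_h47, wd_append, wd_append, wd_single, mul_assoc]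

/-- **`z` and `z⁻¹` are conjugate** -/
theorem conj_inv_zz : IsConj (zz : G3) (zz : G3)⁻¹ := isConj_iff.2 ⟨wd hL, conj_h⟩

theorem inv_w : wd (wL w47) * wd (wR w47) = 1 := by
  rw [← wd_append]
  exact word_eq chk_inv

theorem exists_w : ∃ w : Gm, w * xp 24 * w⁻¹ = xp 47 := by
  have h1 : wd (wR w47) = (wd (wL w47))⁻¹ := inv_of (G := Gm) inv_w
  have h2 := chk47
  rw [Bool.or_eq_true] at h2
  rcases h2 with h2 | h2
  · have h3 : wd (wL w47) * xp 24 * (wd (wL w47))⁻¹ = xp 47 := by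
      rw [← h1, ← wd_cj]
      exact (word_eq h2).trans (wd_single _)
    exact ⟨_, h3⟩
  · have h3 : wd (wL w47) * (xp 24)⁻¹ * (wd (wL w47))⁻¹ = xp 47 := by
      rw [← h1, ← xp24_inv, ← wd_cj]
      exact (word_eq h2).trans (wd_single _)
    have h4 : wd (wL w47) * xp 24 * (wd (wL w47))⁻¹ = (xp 47)⁻¹ := by
      rw [← h3]
      generalize wd (wL w47) = w
      generalize xp 24 = x
      group
    refine ⟨wd hL * wd (wL w47), ?_⟩
    have h5 : wd hL * (xp 47)⁻¹ * (wd hL)⁻¹ = xp 47 := by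
      have h6 := congrArg (fun t => t⁻¹) conj_h
      generalize wd hL = u at h6 ⊢
      generalize xp 47 = z at h6 ⊢
      simpa only [mul_inv_rev, inv_inv, mul_assoc] using h6
    generalize wd hL = u at h5 ⊢
    generalize xp 47 = z at h5 h4 ⊢
    generalize wd (wL w47) = w at h4 ⊢
    generalize xp 24 = x at h4 ⊢
    calc u * w * x * (u * w)⁻¹ = u * (w * x * w⁻¹) * u⁻¹ := by group
      _ = z := by rw [h4, h5]

/-- **`x₂₄(1)` and `z` are conjugate** -/
theorem conj24 : IsConj (xp 24 : G3) (zz : G3) := isConj_iff.2 exists_w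

/-- the element `s` -/
theorem exists_s0 : ∃ s : Gm, s * xp 47 * s⁻¹ = xp 24 := by
  obtain ⟨w, hw⟩ := exists_w
  refine ⟨w⁻¹, ?_⟩
  rw [← hw]
  generalize xp 24 = x
  group

/-! ### generation by `P^s` and `Q` -/

/-- the roots commuting with `24` that are used -/
def rS : List ℕ := [33, 27, 24, 14, 20, 22, 2]

theorem chk_comm : (rS.all fun r => chkE [(r, true), (24, true)] [(24, true), (r, true)]) = true := by decide +kernel

theorem chk25 : (chkE [(2, true), (46, true), (2, false), (46, false)] [(25, true)] ||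
    chkE [(46, true), (2, true), (46, false), (2, false)] [(25, true)]) = true := by decide +kernel

/-- the letters of `C₃` and `2` -/
def rT : List ℕ := [33, 27, 25, 14, 20, 22, 2]

theorem rT_lt : ∀ r ∈ rT, r < 48 := by decide

/-- the reflections from `2` to `23` -/
def w23 : List ℕ := [2, 1, 2, 0, 1]

theorem chk23 : (chkE (cj w23 (2, true)) [(23, true)] || chkE (cj w23 (2, false)) [(23, true)]) = true := by
  decide +kernel

theorem let23 : (∀ p ∈ cj w23 (2, true), p.1 ∈ rT) ∧ ∀ p ∈ cj w23 (2, false), p.1 ∈ rT := by decide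

theorem mem_s {s : Gm} (hs : s * xp 47 * s⁻¹ = xp 24) {g : Gm} (hg : g * xp 24 = xp 24 * g) : s⁻¹ * g * s ∈ PP := by
  rw [Cfsg.Agent.H701.F43.CzP.mem_PP_iff]
  generalize xp 47 = z at hs ⊢
  generalize xp 24 = x at hs hg
  subst hs
  calc s⁻¹ * g * s * z = s⁻¹ * (g * (s * z * s⁻¹)) * s := by group
    _ = s⁻¹ * ((s * z * s⁻¹) * g) * s := by rw [hg]
    _ = _ := by group

/-- **generation** -/
theorem gen_s {s : Gm} (hs : s * xp 47 * s⁻¹ = xp 24) {K : Subgroup Gm} (hP : ∀ g ∈ PP, s * g * s⁻¹ ∈ K)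
    (hQ : QQ ≤ K) : K = ⊤ := by
  have h1 : ∀ r ∈ rS, xp r ∈ K := by
    intro r hr
    have h2 : wd [(r, true), (24, true)] = wd [(24, true), (r, true)] := word_eq (List.all_eq_true.1 chk_comm r hr)
    rw [wd_cons, wd_single, wd_cons, wd_single] at h2
    have h3 := hP _ (mem_s hs h2)
    have h4 : s * (s⁻¹ * xp r * s) * s⁻¹ = xp r := by
      generalize xp r = x
      group
    rwa [h4] at h3
  have h46 : xp 46 ∈ K := hQ (xp_mem (by decide))
  have h2 : xp 2 ∈ K := h1 2 (by decide)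
  have h25 : xp 25 ∈ K := by
    have hK : ∀ r ∈ ([2, 46] : List ℕ), xp r ∈ K := by
      intro r hr
      simp only [List.mem_cons, List.not_mem_nil, or_false] at hr
      rcases hr with rfl | rfl
      · exact h2
      · exact h46
    have h3 := chk25
    rw [Bool.or_eq_true] at h3
    rcases h3 with h3 | h3
    · have h4 : wd [(2, true), (46, true), (2, false), (46, false)] = xp 25 := (word_eq h3).trans (wd_single _)
      exact h4 ▸ wd_in (by decide) hK (by decide)
    · have h4 : wd [(46, true), (2, true), (46, false), (2, false)] = xp 25 := (word_eq h3).trans (wd_single _)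
      exact h4 ▸ wd_in (by decide) hK (by decide)
  have hT : ∀ r ∈ rT, xp r ∈ K := by
    intro r hr
    have h5 : r ∈ rS ∨ r = 25 := by
      revert r
      decide
    rcases h5 with h5 | rfl
    · exact h1 r h5
    · exact h25
  have h23 : xp 23 ∈ K := by
    have h3 := chk23
    rw [Bool.or_eq_true] at h3
    rcases h3 with h3 | h3
    · have h4 : wd (cj w23 (2, true)) = xp 23 := (word_eq h3).trans (wd_single _)
      exact h4 ▸ wd_in rT_lt hT let23.1
    · have h4 : wd (cj w23 (2, false)) = xp 23 := (word_eq h3).trans (wd_single _)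
      exact h4 ▸ wd_in rT_lt hT let23.2
  refine gen_top fun r hr => ?_
  have h5 : r ∈ rS ∨ r = 25 ∨ r = 23 := by
    revert r
    decide
  rcases h5 with h5 | rfl | rfl
  · exact h1 r h5
  · exact h25
  · exact h23

/-- **T7 (3).** -/
theorem exists_s : ∃ s : G3, s * (zz : G3) * s⁻¹ = (xp 24 : G3) ∧
    Subgroup.closure ((fun g : G3 => s * g * s⁻¹) '' (PP : Set G3) ∪ (QQ : Set G3)) = ⊤ := by
  obtain ⟨s, hs⟩ := exists_s0
  refine ⟨s, hs, ?_⟩
  refine gen_s hs (fun g hg => Subgroup.subset_closure (Or.inl ⟨g, hg, rfl⟩)) fun g hg => Subgroup.subset_closure (Or.inr hg)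

/-- the same with an arbitrary subgroup -/
theorem exists_s' : ∃ s : G3, s * (zz : G3) * s⁻¹ = (xp 24 : G3) ∧
    ∀ K : Subgroup G3, (∀ g ∈ PP, s * g * s⁻¹ ∈ K) → QQ ≤ K → K = ⊤ := by
  obtain ⟨s, hs⟩ := exists_s0
  exact ⟨s, hs, fun K hP hQ => gen_s hs hP hQ⟩

end Cfsg.Agent.H358.RB
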